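import Mathlib
import Cfsg.Agent.LThreeCo1.Ev

/-!
# Elements of `Co0` for the prime 5 (helper600, S4876)

`R1`, `R2` of order 5 (traces `-6`, `-1`; the product has trace 4) commute; `R3` of order 5 and the involution `R4` commute with
`R1` and `R2`; `R4` inverts `R3`.  Generated by a script; checked by the kernel.
-/

set_option autoImplicit false
set_option maxRecDepth 20000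

namespace Cfsg.Agent.H600.CoFive.Mat

open Cfsg.Agent.LThreeCo1.Ev Cfsg.Agent.SporadicStructure.Co0Matrix Cfsg.Agent.CoOneType.CoEval

/-- matrix (times 8) -/
def R1 : List (List ℤ) := [
  [-1, -1, 1, -1, -1, 1, 1, 1, 1, -3, 1, -1, 1, 1, 1, -3, 1, 1, 1, 3, 3, 1, 1, 3],
  [1, -3, -1, -3, 1, -1, -1, -1, -1, -1, -1, 1, -1, -1, -1, -1, -1, -1, 3, 1, 1, -1, 3, -3],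
  [-1, -1, -3, -1, -1, -3, 1, 1, 1, 1, 1, -1, -3, 1, 1, 1, -3, 1, 1, -1, -1, 1, 1, 3],
  [-1, 3, 1, -1, 3, 1, 1, 1, 1, 1, 1, -1, 1, 1, 1, 1, -3, 1, 1, -1, 3, -3, 1, -1],
  [-1, -1, 1, -1, -1, 1, 1, 1, 1, 1, 1, 3, 1, 5, -3, 1, 1, 1, 1, -1, -1, 1, 1, -1],
  [-1, -1, 1, -1, -1, -3, 1, 1, -3, 1, 1, -1, 1, 1, 1, 1, 1, 1, 1, 3, -1, -3, -3, -1],
  [-1, -1, 1, -1, -1, 1, 1, 1, 1, 1, -3, -1, -3, 1, 1, 1, 1, -3, 1, -1, 3, 1, -3, -1],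
  [-1, 3, 1, -1, -1, -3, 1, -3, 1, 1, 1, -1, 1, 1, 1, -3, 1, -3, 1, -1, -1, 1, 1, -1],
  [-1, -1, -3, -1, -1, 1, 1, -3, -3, 1, 1, -1, 1, 1, 1, 1, 1, 1, -3, -1, 3, 1, 1, -1],
  [3, -1, 1, -1, -1, 1, 1, -3, 1, -3, 1, -1, 1, 1, 1, 1, -3, 1, 1, -1, -1, 1, -3, -1],
  [-1, -1, 1, 3, -1, 1, 1, 1, -3, 1, -3, -1, 1, 1, 1, -3, -3, 1, 1, -1, -1, 1, 1, -1],
  [-1, -1, 1, -1, -1, 1, 1, 1, 1, 1, 1, -5, 1, -3, -3, 1, 1, 1, 1, -1, -1, 1, 1, -1],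
  [-3, 1, -1, -3, 1, 3, 3, -1, -1, -1, -1, 1, -1, -1, -1, -1, -1, -1, -1, 1, -3, -1, -1, 1],
  [1, 1, -1, -3, -3, -1, -1, 3, -1, -1, -1, 1, 3, -1, -1, -1, -1, -1, -1, -3, 1, -1, -1, 1],
  [-3, 1, -1, 1, 1, -1, -1, -1, -1, -1, -1, 1, 3, -1, -1, 3, -1, -1, 3, 1, 1, 3, -1, 1],
  [1, 1, -1, 1, 1, -1, -1, -1, -1, -1, -1, -3, -1, 3, -5, -1, -1, -1, -1, 1, 1, -1, -1, 1],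
  [-3, -3, 3, 1, 1, -1, -1, -1, -1, -1, 3, 1, -1, -1, -1, -1, -1, -1, -1, -3, 1, -1, -1, 1],
  [3, -1, 1, -1, 3, 1, 1, 1, -3, 1, 1, -1, 1, 1, 1, 1, 1, -3, 1, -1, -1, 1, 1, 3],
  [-1, -1, 1, -1, 3, -3, 1, 1, 1, -3, -3, -1, 1, 1, 1, 1, 1, 1, -3, -1, -1, 1, 1, -1],
  [1, 1, -1, 1, 1, -1, 3, -1, -1, -1, -1, 1, -1, -1, -1, -1, 3, 3, 3, -3, 1, -1, -1, 1],
  [-1, -1, -3, -1, 3, 1, -3, 1, 1, 1, 1, -1, 1, 1, 1, -3, 1, 1, 1, -1, -1, 1, -3, -1],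
  [-1, -1, 1, -1, -1, 1, -3, -3, 1, 1, -3, -1, 1, 1, 1, 1, 1, 1, 1, -1, -1, -3, 1, 3],
  [1, -3, -1, 1, 1, -1, 3, -1, 3, 3, -1, 1, 3, -1, -1, -1, -1, -1, -1, 1, 1, -1, -1, 1],
  [-1, -1, -3, 3, -1, 1, 1, 1, 1, -3, 1, -1, 1, 1, 1, 1, 1, -3, 1, -1, -1, -3, 1, -1]]

theorem ok1 : Ok R1 (tr R1) := Cfsg.Agent.CoOneType.CoFast.ok_of_okZ (by decide +kernel)

/-- matrix (times 8) -/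
def R2 : List (List ℤ) := [
  [0, 0, 0, -2, -2, -2, 2, 0, -2, 0, -4, 0, 0, 0, -4, 0, 0, 2, 0, 0, -2, 0, 0, -2],
  [-2, -2, 2, 0, 0, 0, 0, 2, 0, 2, -2, 2, 2, -2, 2, 2, 2, 0, 2, 2, 0, -2, -2, 0],
  [2, 2, 2, 0, 0, 0, 0, 2, 0, 2, -2, -2, 2, -2, 2, 2, -2, 0, -2, -2, 0, 2, 2, 0],
  [2, -2, -2, 0, 0, 0, 0, 2, 0, -2, -2, 2, 2, 2, 2, -2, 2, 0, 2, -2, 0, 2, 2, 0],
  [-4, 0, 0, -2, -2, -2, -2, 0, -2, 0, 0, 0, 0, 0, 0, 0, 0, -2, 0, -4, 2, 0, 0, 2],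
  [2, -2, 2, 0, 0, 0, 0, 2, 0, -2, 2, 2, 2, -2, -2, -2, -2, 0, -2, -2, 0, -2, -2, 0],
  [0, 0, 0, 2, -2, -2, 2, 0, 2, 0, 0, 0, 0, 0, 0, 0, 0, -2, 0, 0, -2, -4, 4, 2],
  [-2, -2, 2, 0, 0, 0, 0, -2, 0, -2, -2, 2, -2, -2, 2, -2, -2, 0, -2, 2, 0, 2, 2, 0],
  [0, 0, 0, 2, 2, 2, -2, 0, 2, 0, -4, 0, 0, 0, -4, 0, 0, -2, 0, 0, 2, 0, 0, 2],
  [-2, -2, -2, 0, 0, 0, 0, 2, 0, 2, 2, 2, 2, 2, -2, 2, -2, 0, -2, 2, 0, 2, 2, 0],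
  [0, 0, 0, -2, 2, -2, -2, 0, 2, 4, 0, 0, 0, 0, 0, -4, 0, 2, 0, 0, -2, 0, 0, 2],
  [0, -4, 0, 2, 2, -2, -2, 0, -2, 0, 0, -4, 0, 0, 0, 0, 0, -2, 0, 0, -2, 0, 0, -2],
  [0, 0, 0, 2, -2, 2, -2, 0, -2, 0, 0, 0, 0, 0, 0, 0, 4, 2, -4, 0, -2, 0, 0, 2],
  [0, 0, -4, -2, -2, 2, -2, 0, 2, 0, 0, 0, 0, -4, 0, 0, 0, -2, 0, 0, -2, 0, 0, -2],
  [0, -4, 0, -2, -2, 2, 2, 0, 2, 0, 0, -4, 0, 0, 0, 0, 0, 2, 0, 0, 2, 0, 0, 2],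
  [-2, 2, -2, 0, 0, 0, 0, 2, 0, -2, -2, -2, 2, 2, 2, -2, -2, 0, -2, 2, 0, -2, -2, 0],
  [0, 0, 0, 2, -2, -2, -2, 4, 2, 0, 0, 0, -4, 0, 0, 0, 0, 2, 0, 0, 2, 0, 0, -2],
  [0, 0, 4, -2, -2, 2, -2, 0, 2, 0, 0, 0, 0, 4, 0, 0, 0, -2, 0, 0, -2, 0, 0, -2],
  [0, 0, 0, 2, -2, -2, 2, 0, 2, 0, 0, 0, 0, 0, 0, 0, 0, -2, 0, 0, -2, 4, -4, 2],
  [0, 0, 0, -2, 2, 2, 2, 4, -2, 0, 0, 0, -4, 0, 0, 0, 0, -2, 0, 0, -2, 0, 0, 2],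
  [0, 0, 0, -2, 2, -2, 2, 0, 2, 0, 0, 0, 0, 0, 0, 0, 4, -2, -4, 0, 2, 0, 0, -2],
  [2, -2, -2, 0, 0, 0, 0, -2, 0, 2, -2, 2, -2, 2, 2, 2, -2, 0, -2, -2, 0, -2, -2, 0],
  [0, 0, 0, -2, 2, -2, -2, 0, 2, -4, 0, 0, 0, 0, 0, 4, 0, 2, 0, 0, -2, 0, 0, 2],
  [4, 0, 0, -2, -2, -2, -2, 0, -2, 0, 0, 0, 0, 0, 0, 0, 0, -2, 0, 4, 2, 0, 0, 2]]

theorem ok2 : Ok R2 (tr R2) := Cfsg.Agent.CoOneType.CoFast.ok_of_okZ (by decide +kernel)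

/-- matrix (times 8) -/
def R3 : List (List ℤ) := [
  [1, 1, -1, -1, -3, -1, -3, -1, -1, -1, -3, -1, -1, -1, -1, 1, -1, 3, 3, 1, -1, -1, 1, -1],
  [-3, 1, -1, -1, 1, 3, 1, -1, -1, -1, -3, -1, -1, -1, 3, -3, -1, -1, -1, 1, -1, -1, 1, -1],
  [1, 1, 3, -1, 1, -1, 1, 3, -1, -1, 1, -1, -1, -1, 3, 1, -1, 3, -1, -3, -1, -1, 1, -1],
  [1, 1, -1, 3, -3, -1, 1, -1, 3, -1, 1, -1, -1, -1, -1, -3, -1, -1, -1, -3, -1, -1, 1, -1],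
  [-3, 1, -1, 3, 1, -1, 1, -1, -1, 3, 1, -1, -1, -1, -1, 1, -1, 3, -1, 1, 3, -1, 1, -1],
  [3, -1, 1, 1, -1, 1, -1, -3, -3, 1, -1, 1, 1, 1, 1, -1, 1, 1, -3, -1, 1, -3, -1, 1],
  [3, -1, 1, 1, -1, 1, 3, 1, 1, 1, -1, -3, -3, 1, 1, -1, 1, 1, 1, 3, 1, 1, -1, 1],
  [1, 1, 3, -1, 1, -1, 1, -1, -1, -1, 1, -1, 3, -1, -1, -3, -1, -1, 3, 1, 3, -1, 1, -1],
  [1, -3, -1, -1, 1, -1, 1, -1, -1, -1, -3, -1, -1, -1, -1, 1, -1, -1, -1, -3, 3, 3, 1, -1],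
  [-1, -1, 1, -3, -1, 1, -1, -3, 1, 1, 3, 1, -3, 1, 1, -1, -3, 1, 1, -1, 1, 1, -1, 1],
  [1, -3, -1, -1, 1, -1, -3, 3, -1, 3, 1, -1, -1, -1, -1, -3, -1, -1, -1, 1, -1, -1, 1, -1],
  [1, 1, -1, -1, 1, 3, 1, -1, -1, 3, 1, -1, -1, -1, -1, 1, 3, -1, 3, -3, -1, -1, 1, -1],
  [1, -3, -1, -1, 1, 3, 1, -1, 3, -1, 1, -1, 3, -1, -1, 1, -1, 3, -1, 1, -1, -1, 1, -1],
  [3, 3, -3, 1, 3, 1, -1, 1, 1, 1, -1, 1, 1, 1, 1, -1, -3, 1, 1, -1, 1, 1, -1, 1],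
  [-1, -1, 1, 1, -1, 1, -1, 1, 1, 1, -1, 1, 1, -3, 1, -1, 1, 1, 1, -1, 1, 1, 3, 5],
  [-1, -1, 1, 1, -1, 1, -1, 1, 1, 1, -1, -3, 1, 1, 1, 3, -3, -3, 1, -1, 1, -3, -1, 1],
  [-1, -1, 1, 1, 3, 1, -1, 1, 1, -3, -1, 1, -3, 1, -3, -1, 1, 1, 1, -1, 1, -3, -1, 1],
  [1, 1, 3, 3, 1, 3, -3, -1, -1, -1, 1, -1, -1, -1, -1, 1, -1, -1, -1, 1, -1, 3, 1, -1],
  [1, -3, -1, 3, 1, -1, 1, -1, -1, -1, 1, 3, -1, -1, 3, 1, -1, -1, 3, 1, -1, -1, 1, -1],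
  [1, 1, -1, -1, 1, -1, 1, -1, -1, -1, 1, -1, -1, -5, -1, 1, -1, -1, -1, 1, -1, -1, -3, 3],
  [1, 1, -1, -1, 1, -1, -3, -1, 3, -1, 1, -1, -1, -1, 3, 1, 3, -1, -1, 1, 3, -1, 1, -1],
  [-1, -1, 1, 1, 3, -3, -1, -3, 1, 1, -1, -3, 1, 1, 1, -1, 1, 1, 1, -1, -3, 1, -1, 1],
  [1, 1, 3, -1, 1, -1, 1, -1, 3, 3, -3, 3, -1, -1, -1, 1, -1, -1, -1, 1, -1, -1, 1, -1],
  [1, 1, -1, -1, 1, -1, 1, -1, -1, -1, 1, -1, -1, 3, -1, 1, -1, -1, -1, 1, -1, -1, 5, 3]]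

theorem ok3 : Ok R3 (tr R3) := Cfsg.Agent.CoOneType.CoFast.ok_of_okZ (by decide +kernel)

/-- matrix (times 8) -/
def R4 : List (List ℤ) := [
  [0, 0, 2, 2, 0, -2, -2, 0, -2, -2, -2, 2, 2, 2, 0, 2, 0, 0, 2, 0, -2, -2, -2, 2],
  [0, 0, 2, -2, 0, 2, 2, 0, -2, -2, -2, 2, -2, 2, 0, -2, 0, 0, -2, 0, 2, 2, -2, 2],
  [2, 2, 4, 0, 2, 0, 0, 2, 0, 0, 0, 0, 0, -4, 2, 0, -2, 2, 0, -2, 0, 0, 0, 0],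
  [2, -2, 0, 4, 2, 0, 4, -2, 0, 0, 0, 0, 0, 0, -2, 0, 2, 2, 0, -2, 0, 0, 0, 0],
  [0, 0, 2, 2, 0, -2, -2, 0, 2, 2, 2, -2, -2, 2, 0, -2, 0, 0, -2, 0, 2, -2, -2, 2],
  [-2, 2, 0, 0, -2, 4, 0, -2, 0, 0, 0, 0, 0, 0, -2, 0, -2, 2, 0, -2, 0, -4, 0, 0],
  [-2, 2, 0, 4, -2, 0, 4, 2, 0, 0, 0, 0, 0, 0, 2, 0, -2, -2, 0, 2, 0, 0, 0, 0],
  [0, 0, 2, -2, 0, -2, 2, 0, -2, -2, 2, -2, 2, 2, 0, -2, 0, 0, 2, 0, 2, -2, 2, -2],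
  [-2, -2, 0, 0, 2, 0, 0, -2, 4, -4, 0, 0, 0, 0, 2, 0, -2, -2, 0, -2, 0, 0, 0, 0],
  [-2, -2, 0, 0, 2, 0, 0, -2, -4, 4, 0, 0, 0, 0, 2, 0, -2, -2, 0, -2, 0, 0, 0, 0],
  [-2, -2, 0, 0, 2, 0, 0, 2, 0, 0, 4, 4, 0, 0, -2, 0, -2, 2, 0, 2, 0, 0, 0, 0],
  [2, 2, 0, 0, -2, 0, 0, -2, 0, 0, 4, 4, 0, 0, 2, 0, 2, -2, 0, -2, 0, 0, 0, 0],
  [2, -2, 0, 0, -2, 0, 0, 2, 0, 0, 0, 0, 4, 0, -2, 0, -2, -2, -4, -2, 0, 0, 0, 0],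
  [2, 2, -4, 0, 2, 0, 0, 2, 0, 0, 0, 0, 0, 4, 2, 0, -2, 2, 0, -2, 0, 0, 0, 0],
  [0, 0, 2, -2, 0, -2, 2, 0, 2, 2, -2, 2, -2, 2, 0, 2, 0, 0, -2, 0, -2, -2, 2, -2],
  [2, -2, 0, 0, -2, 0, 0, -2, 0, 0, 0, 0, 0, 0, 2, 4, -2, 2, 0, 2, 4, 0, 0, 0],
  [0, 0, -2, 2, 0, -2, -2, 0, -2, -2, -2, 2, -2, -2, 0, -2, 0, 0, -2, 0, 2, -2, 2, -2],
  [0, 0, 2, 2, 0, 2, -2, 0, -2, -2, 2, -2, -2, 2, 0, 2, 0, 0, -2, 0, -2, 2, 2, -2],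
  [2, -2, 0, 0, -2, 0, 0, 2, 0, 0, 0, 0, -4, 0, -2, 0, -2, -2, 4, -2, 0, 0, 0, 0],
  [0, 0, -2, -2, 0, -2, 2, 0, -2, -2, 2, -2, -2, -2, 0, 2, 0, 0, -2, 0, -2, -2, -2, 2],
  [-2, 2, 0, 0, 2, 0, 0, 2, 0, 0, 0, 0, 0, 0, -2, 4, 2, -2, 0, -2, 4, 0, 0, 0],
  [-2, 2, 0, 0, -2, -4, 0, -2, 0, 0, 0, 0, 0, 0, -2, 0, -2, 2, 0, -2, 0, 4, 0, 0],
  [-2, -2, 0, 0, -2, 0, 0, 2, 0, 0, 0, 0, 0, 0, 2, 0, 2, 2, 0, -2, 0, 0, 4, 4],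
  [2, 2, 0, 0, 2, 0, 0, -2, 0, 0, 0, 0, 0, 0, -2, 0, -2, -2, 0, 2, 0, 0, 4, 4]]

theorem ok4 : Ok R4 (tr R4) := Cfsg.Agent.CoOneType.CoFast.ok_of_okZ (by decide +kernel)

/-- the matrices -/
def M : ℕ → List (List ℤ)
  | 1 => R1
  | 2 => R2
  | 3 => R3
  | 4 => R4
  | _ => R1

theorem okM (i : ℕ) : Ok (M i) (tr (M i)) := by
  unfold M
  split
  · exact ok1
  · exact ok2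
  · exact ok3
  · exact ok4
  · exact ok1

end Cfsg.Agent.H600.CoFive.Mat
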