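import Cfsg.Agent.H600.CoFive.Mat
import Cfsg.Agent.H121.K6.Tools
import Cfsg.Agent.PreUniqCo.TrWord
import Cfsg.Agent.ConwayFacts.AutCo1

/-!
# S4876, `p = 5`: the row `Co1` (helper600)

Three elements of order 5 with traces `-6`, `4`, `-1`, all commuting with a dihedral group of order 10 : three classes of
weight 2.
-/

set_option autoImplicit false
set_option maxRecDepth 20000

namespace Cfsg.Agent.H600.CoFive.Row

open Cfsg Cfsg.Agent.SporadicA Cfsg.Agent.SporadicStructure.Co0Matrix Cfsg.Agent.CoOneType.CoEval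
open Cfsg.Agent.CoOneType.CoFast Cfsg.Agent.LThreeCo1.Ev
open Cfsg.Agent.H600.CoFive.Mat
open Cfsg.Agent.H61.K6 Cfsg.Agent.H121.K6
open Cfsg.Agent.Co2Type.Mono (tr8 tr8_conj)
open Cfsg.Agent.PreUniqCo.TrWord (trW tr8_word)

universe u v

/-- the elements -/
noncomputable def el (i : ℕ) : Co0 := mk (okM i)

theorem rep (i : ℕ) : Rep (el i) (M i) := rep_mk (okM i)

theorem word_eq {w w' : List ℕ} (h : eqB M w w' = true) : (w.map el).prod = (w'.map el).prod :=
  eq_of_eqB rep h

theorem word_tr (w : List ℕ) : tr8 ((w.map el).prod) = trW M w := tr8_word rep w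

/-! ### the relations -/

theorem k1 : eqB M [1, 1, 1, 1, 1] [] = true := by decide +kernel
theorem k2 : eqB M [2, 2, 2, 2, 2] [] = true := by decide +kernel
theorem k3 : eqB M [3, 3, 3, 3, 3] [] = true := by decide +kernel
theorem k12 : eqB M [1, 2] [2, 1] = true := by decide +kernel
theorem k13 : eqB M [1, 3] [3, 1] = true := by decide +kernel
theorem k23 : eqB M [2, 3] [3, 2] = true := by decide +kernel
theorem k14 : eqB M [1, 4] [4, 1] = true := by decide +kernel
theorem k24 : eqB M [2, 4] [4, 2] = true := by decide +kernel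
theorem k34 : eqB M [4, 3] [3, 3, 3, 3, 4] = true := by decide +kernel

theorem k_tr : (trW M [1] = -48 ∧ trW M [2] = -8) ∧ trW M [1, 2] = 32 ∧ trW M [3] = 32 := by decide +kernel

theorem pow5 {i : ℕ} (h : eqB M [i, i, i, i, i] [] = true) : el i ^ 5 = 1 := by
  have h1 := word_eq h
  simp only [List.map_cons, List.map_nil, List.prod_cons, List.prod_nil, mul_one] at h1
  rw [← h1]
  simp only [pow_succ, pow_zero, one_mul, mul_assoc]

theorem comm {i j : ℕ} (h : eqB M [i, j] [j, i] = true) : el i * el j = el j * el i := by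
  have h1 := word_eq h
  simp only [List.map_cons, List.map_nil, List.prod_cons, List.prod_nil, mul_one] at h1
  exact h1

theorem inv34 : el 4 * el 3 * (el 4)⁻¹ = (el 3)⁻¹ := by
  have h1 := word_eq k34
  simp only [List.map_cons, List.map_nil, List.prod_cons, List.prod_nil, mul_one] at h1
  rw [h1]
  have h2 := pow5 k3
  have h3 : el 3 * (el 3 * (el 3 * (el 3 * el 4))) * (el 4)⁻¹ = el 3 ^ 4 := by
    simp only [pow_succ, pow_zero, one_mul, mul_assoc, mul_inv_cancel, mul_one]
  rw [h3]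
  rw [pow_succ] at h2
  exact eq_inv_of_mul_eq_one_left h2

/-! ### the absolute value of the trace on `Co1` -/

theorem neg_smul (v : leechLattice) : (Co0Basic.negCo0 • v : leechLattice) = -v := Co0Basic.negCo0_apply v

theorem tr8_neg_mul (g : Co0) : tr8 (Co0Basic.negCo0 * g) = - tr8 g := by
  unfold tr8
  rw [← Finset.sum_neg_distrib]
  refine Finset.sum_congr rfl fun i _ => ?_
  rw [mul_smul, neg_smul]
  rfl

/-- the absolute value of the trace, on `Co1` -/
noncomputable def T1 (x : Spor.Co1) : ℕ := (tr8 (Quotient.out x)).natAbs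

theorem T1_mk (g : Co0) : T1 (g : Spor.Co1) = (tr8 g).natAbs := by
  unfold T1
  have h1 : ((Quotient.out (g : Spor.Co1) : Co0) : Spor.Co1) = (g : Spor.Co1) := QuotientGroup.out_eq' _
  have h2 : (Quotient.out (g : Spor.Co1) : Co0) * g⁻¹ ∈ Subgroup.center Co0 := by
    rw [← QuotientGroup.eq_one_iff, QuotientGroup.mk_mul, QuotientGroup.mk_inv, h1, mul_inv_cancel]
  rcases Co0Basic.eq_one_or_neg_of_mem_center h2 with h | h
  · rw [mul_inv_eq_one.1 h]
  · rw [mul_inv_eq_iff_eq_mul.1 h, tr8_neg_mul, Int.natAbs_neg]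

theorem T1_aut (σ : Spor.Co1 ≃* Spor.Co1) (s : Spor.Co1) : T1 (σ s) = T1 s := by
  obtain ⟨k, hk⟩ := Cfsg.Agent.ConwayFacts.AutCo1.inner σ
  obtain ⟨g, rfl⟩ := QuotientGroup.mk_surjective s
  obtain ⟨h, rfl⟩ := QuotientGroup.mk_surjective k
  rw [show σ (g : Spor.Co1) = _ from hk _, ← QuotientGroup.mk_inv, ← QuotientGroup.mk_mul, ← QuotientGroup.mk_mul,
    T1_mk, T1_mk, tr8_conj]

theorem T1_one : T1 (1 : Spor.Co1) = 192 := by
  have h1 := T1_mk 1
  rw [Cfsg.Agent.SigZeroCo2.Lin.tr8_one] at h1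
  exact h1

/-- the elements in `Co1` -/
noncomputable def x (i : ℕ) : Spor.Co1 := ((el i : Co0) : Spor.Co1)

theorem T1_x1 : T1 (x 1) = 48 := by
  have h1 := word_tr [1]
  simp only [List.map_cons, List.map_nil, List.prod_cons, List.prod_nil, mul_one] at h1
  rw [x, T1_mk, h1, k_tr.1.1]; rfl

theorem T1_x2 : T1 (x 2) = 8 := by
  have h1 := word_tr [2]
  simp only [List.map_cons, List.map_nil, List.prod_cons, List.prod_nil, mul_one] at h1
  rw [x, T1_mk, h1, k_tr.1.2]; rfl

theorem T1_x3 : T1 (x 3) = 32 := by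
  have h1 := word_tr [3]
  simp only [List.map_cons, List.map_nil, List.prod_cons, List.prod_nil, mul_one] at h1
  rw [x, T1_mk, h1, k_tr.2.2]; rfl

theorem T1_x12 : T1 (x 1 * x 2) = 32 := by
  have h1 := word_tr [1, 2]
  simp only [List.map_cons, List.map_nil, List.prod_cons, List.prod_nil, mul_one] at h1
  rw [x, x, ← QuotientGroup.mk_mul, T1_mk, h1, k_tr.2.1]; rfl

theorem ne_one {y : Spor.Co1} (h : T1 y ≠ 192) : y ≠ 1 := by
  rintro rfl
  exact h T1_one

theorem xcomm {i j : ℕ} (h : eqB M [i, j] [j, i] = true) : x i * x j = x j * x i := by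
  rw [x, x, ← QuotientGroup.mk_mul, comm h, QuotientGroup.mk_mul]

theorem xpow {i : ℕ} (h : eqB M [i, i, i, i, i] [] = true) : x i ^ 5 = 1 := by
  rw [x, ← QuotientGroup.mk_pow, pow5 h, QuotientGroup.mk_one]

theorem krow_co1 : KRow.{u, 0} 5 Spor.Co1 := by
  classical
  have h5 : Fact (Nat.Prime 5) := ⟨by norm_num⟩
  have : Finite Spor.Co1 := Nat.finite_of_card_ne_zero (by
    rw [Cfsg.Agent.MonsterU.CoFrameF.card_Co1]; norm_num)
  have n3 : x 3 ≠ 1 := ne_one (by rw [T1_x3]; norm_num)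
  have i3 : x 4 * x 3 * (x 4)⁻¹ = (x 3)⁻¹ := by
    rw [x, x, ← QuotientGroup.mk_inv, ← QuotientGroup.mk_mul, ← QuotientGroup.mk_mul, inv34, QuotientGroup.mk_inv]
  have hw : ∀ y : Spor.Co1, x 3 * y = y * x 3 → x 4 * y = y * x 4 → wt 5 y = 2 := fun y h1 h2 =>
    wt_eq_two_of_inv (by norm_num) (by norm_num) (k := 1) h1 h2 (by rw [pow_one]; exact xpow k3) n3 i3
  have c31 := (xcomm k13).symm
  have c32 := (xcomm k23).symm
  have c41 := (xcomm k14).symm
  have c42 := (xcomm k24).symm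
  have w1 : wt 5 (x 1) = 2 := hw _ c31 c41
  have w2 : wt 5 (x 2) = 2 := hw _ c32 c42
  have w12 : wt 5 (x 1 * x 2) = 2 := hw _ (by rw [← mul_assoc, c31, mul_assoc, c32, mul_assoc])
    (by rw [← mul_assoc, c41, mul_assoc, c42, mul_assoc])
  have hX : ¬ HasNormalPComplement 5 Spor.Co1 :=
    not_compl_of_inv (by norm_num) (by norm_num) (k := 1) (y := x 3) (n := x 4) (by rw [pow_one]; exact xpow k3) n3 i3
  have hel : ∀ y : Spor.Co1, y ^ 5 = 1 → y ≠ 1 → El 5 y := fun y h1 h2 =>
    ⟨⟨1, by rw [pow_one]; exact orderOf_eq_prime h1 h2⟩, h2⟩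
  have p12 : (x 1 * x 2) ^ 5 = 1 := by
    have h1 : Commute (x 1) (x 2) := xcomm k12
    rw [h1.mul_pow, xpow k1, xpow k2, mul_one]
  have e12 : x 1 ≠ x 2 := fun h => by have := T1_x1; rw [h, T1_x2] at this; norm_num at this
  have e1' : x 1 ≠ x 1 * x 2 := fun h => by have := T1_x1; rw [h, T1_x12] at this; norm_num at this
  have e2' : x 2 ≠ x 1 * x 2 := fun h => by have := T1_x2; rw [h, T1_x12] at this; norm_num at this
  refine KRow.of_wt hX {x 1, x 2, x 1 * x 2} ?_ ?_ ?_
  · intro y hy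
    simp only [Finset.mem_insert, Finset.mem_singleton] at hy
    rcases hy with rfl | rfl | rfl
    · exact hel _ (xpow k1) (ne_one (by rw [T1_x1]; norm_num))
    · exact hel _ (xpow k2) (ne_one (by rw [T1_x2]; norm_num))
    · exact hel _ p12 (ne_one (by rw [T1_x12]; norm_num))
  · intro y hy z hz σ h
    have h1 : T1 y = T1 z := by rw [← h, T1_aut]
    simp only [Finset.mem_insert, Finset.mem_singleton] at hy hz
    rcases hy with rfl | rfl | rfl <;> rcases hz with rfl | rfl | rfl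
    · rfl
    · rw [T1_x1, T1_x2] at h1; norm_num at h1
    · rw [T1_x1, T1_x12] at h1; norm_num at h1
    · rw [T1_x1, T1_x2] at h1; norm_num at h1
    · rfl
    · rw [T1_x2, T1_x12] at h1; norm_num at h1
    · rw [T1_x1, T1_x12] at h1; norm_num at h1
    · rw [T1_x2, T1_x12] at h1; norm_num at h1
    · rfl
  · rw [Finset.sum_insert (by simp [e12, e1']), Finset.sum_insert (by simp [e2']), Finset.sum_singleton, w1, w2, w12]
    norm_num

/-- **The row `Co1`, `p = 5`.** -/
theorem row_co1 {X : Type v} [Group X] (h : Spor.IsoCo1 X) : KRow.{u, v} 5 X := by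
  obtain ⟨e⟩ := h
  exact KRow.congr e.symm krow_co1

end Cfsg.Agent.H600.CoFive.Row
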